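import Cfsg.Agent.Lib.Fischer.OrthThreeClass
import Cfsg.Agent.Lib.Classical.OrthClassRefl
import Cfsg.Agent.Lib.Classical.OrthCenter
import Cfsg.Agent.Lib.ThreeTransp.Main
import Cfsg.Agent.Lib.ThreeTransp.Primitive
import Cfsg.Agent.Lib.ThreeTransp.Structure

/-!
The structure of the reflection groups over the field of three elements.
-/

set_option autoImplicit false

namespace CfsgLib.Fischer

open Matrix Cfsg CfsgLib.Orth

variable {ι : Type} [Fintype ι] [DecidableEq ι] {Q : QuadraticForm (ZMod 3) (ι → ZMod 3)}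

theorem reflectionSubgroup_index (hB : Nondeg Q) (hn : 5 ≤ Module.finrank (ZMod 3) (ι → ZMod 3))
    {c : ZMod 3} (hc : c ≠ 0) : (Cfsg.reflectionSubgroup (⇑Q) c).index = 2 := by
  refine Eq.trans ?_ (index_classRefl hB (by decide +kernel : (2 : ZMod 3) ≠ 0) (Or.inr (Or.inr hn)) hc)
  refine congrArg (fun s => (Subgroup.closure s).index) (Set.ext fun g => ⟨?_, ?_⟩)
  · rintro ⟨v, hv, hg⟩
    exact ⟨v, (refl_iff (by rw [hv]; exact hc)).2 hg, c, by rw [hv]⟩
  · rintro ⟨v, hv, k, hk⟩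
    refine ⟨v, ?_, (refl_iff hv.1).1 hv⟩
    exact (by decide +kernel : ∀ q c k : ZMod 3, q ≠ 0 → c ≠ 0 → q * c = k * k → q = c) _ _ _ hv.1 hc hk

theorem map_commutator_reflectionSubgroup (hB : Nondeg Q)
    (hn : 5 ≤ Module.finrank (ZMod 3) (ι → ZMod 3)) {c : ZMod 3} (hc : c ≠ 0) :
    (commutator ↥(Cfsg.reflectionSubgroup (⇑Q) c)).map (Cfsg.reflectionSubgroup (⇑Q) c).subtype =
      Cfsg.Omega (ZMod 3) ⇑Q := by
  rw [Subgroup.map_subtype_commutator]
  have hK := reflectionSubgroup_index hB hn hc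
  haveI := Subgroup.normal_of_index_eq_two hK
  have hΩK : Cfsg.Omega (ZMod 3) ⇑Q ≤ Cfsg.reflectionSubgroup (⇑Q) c := by
    refine (Subgroup.commutator_le.2 fun a _ b _ => ?_)
    rw [commutatorElement_def]
    have h := fun x y : Cfsg.isometryGroup (ZMod 3) ⇑Q => Subgroup.mul_mem_iff_of_index_two (a := x) (b := y) hK
    simp only [h, inv_mem_iff]
    tauto
  refine le_antisymm (Subgroup.commutator_mono le_top le_top) ?_
  rw [← omega_perfect hB hn]
  exact Subgroup.commutator_mono hΩK hΩK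

theorem quasisimple_commutator (hB : Nondeg Q) (hn : 5 ≤ Module.finrank (ZMod 3) (ι → ZMod 3))
    {c : ZMod 3} (hc : c ≠ 0) :
    Cfsg.IsQuasisimple (commutator ↥(Cfsg.reflectionSubgroup (⇑Q) c)) := by
  have hΩ : Cfsg.IsQuasisimple (Cfsg.Omega (ZMod 3) ⇑Q) := by
    refine ⟨⟨?_⟩, pOmega_simple hB hn⟩
    apply Subgroup.map_injective (Cfsg.Omega (ZMod 3) ⇑Q).subtype_injective
    rw [Subgroup.map_subtype_commutator, omega_perfect hB hn, ← MonoidHom.range_eq_map,
      Subgroup.range_subtype]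
  refine Layer.isQuasisimple_of_mulEquiv ?_ hΩ
  exact ((MulEquiv.subgroupCongr (map_commutator_reflectionSubgroup hB hn hc).symm)).trans
    (Subgroup.equivMapOfInjective _ _ (Subgroup.subtype_injective _)).symm

theorem isComponent_commutator (hB : Nondeg Q) (hn : 5 ≤ Module.finrank (ZMod 3) (ι → ZMod 3))
    {c : ZMod 3} (hc : c ≠ 0) :
    Cfsg.IsComponent (commutator ↥(Cfsg.reflectionSubgroup (⇑Q) c)) :=
  ⟨(inferInstance : (commutator ↥(Cfsg.reflectionSubgroup (⇑Q) c)).Normal).isSubnormal,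
    quasisimple_commutator hB hn hc⟩

theorem solvable_normal_le_center (hB : Nondeg Q) (hn : 5 ≤ Module.finrank (ZMod 3) (ι → ZMod 3))
    {c : ZMod 3} (hc : c ≠ 0) {N : Subgroup ↥(Cfsg.reflectionSubgroup (⇑Q) c)} [N.Normal]
    (hN : Group.IsSolvable N) : N ≤ Subgroup.center _ := by
  have h := Layer.commutator_eq_bot_of_isSolvable (isComponent_commutator hB hn hc) hN
    (Subgroup.normalizer_eq_top N ▸ le_top)
  rw [Subgroup.commutator_eq_bot_iff_le_centralizer] at h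
  intro x hx
  have hscal := commute_El_scalar hB hn (x := (x : Grp Q)) fun a ha => by
    rw [← omega_eq_El hB hn, ← map_commutator_reflectionSubgroup hB hn hc] at ha
    obtain ⟨y, hy, rfl⟩ := ha
    exact (congrArg Subtype.val (Subgroup.mem_centralizer_iff.1 (h hy) x hx)).symm
  refine Subgroup.mem_center_iff.2 fun g => Subtype.ext ?_
  rcases hscal with e | e
  · show (g : Grp Q) * x = (x : Grp Q) * g
    rw [e, mul_one, one_mul]
  · refine Subtype.ext (Units.ext ?_)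
    show (((g : Grp Q) : GL ι (ZMod 3)) : Matrix ι ι (ZMod 3)) * (((x : Grp Q) : GL ι (ZMod 3)) : Matrix ι ι (ZMod 3)) =
      (((x : Grp Q) : GL ι (ZMod 3)) : Matrix ι ι (ZMod 3)) * (((g : Grp Q) : GL ι (ZMod 3)) : Matrix ι ι (ZMod 3))
    rw [e, mul_neg, mul_one, neg_mul, one_mul]

theorem orth_three_structure (hB : Nondeg Q) (hn : 5 ≤ Module.finrank (ZMod 3) (ι → ZMod 3))
    {c : ZMod 3} (hc : c ≠ 0) :
    Cfsg.IsQuasisimple (commutator ↥(Cfsg.reflectionSubgroup (⇑Q) c)) ∧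
    (commutator ↥(Cfsg.reflectionSubgroup (⇑Q) c)).index ≤ 2 ∧
    Cfsg.generalizedFittingSubgroup ↥(Cfsg.reflectionSubgroup (⇑Q) c) =
      Subgroup.center ↥(Cfsg.reflectionSubgroup (⇑Q) c) ⊔ commutator ↥(Cfsg.reflectionSubgroup (⇑Q) c) ∧
    Cfsg.IsPrimitiveUnderConj {g : ↥(Cfsg.reflectionSubgroup (⇑Q) c) |
      (g : ↥(Cfsg.isometryGroup (ZMod 3) (⇑Q))) ∈ Cfsg.reflectionsOfNorm (⇑Q) c} := by
  have hD := orth_three_class hB hn hc
  have hL := isComponent_commutator hB hn hc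
  have hidx := ThreeTransp.index_le_two_of_commutator_le hD (le_refl (commutator ↥(Cfsg.reflectionSubgroup (⇑Q) c)))
  have hns : ¬ Group.IsSolvable ↥(Cfsg.reflectionSubgroup (⇑Q) c) := fun h =>
    Layer.not_isSolvable_of_isComponent hL inferInstance
  have hD2 := ThreeTransp.exists_two_of_not_solvable hD hns
  have hp : ∀ p : ℕ, p.Prime → Cfsg.pCore p ↥(Cfsg.reflectionSubgroup (⇑Q) c) ≤ Subgroup.center _ := by
    intro p hp
    haveI := Fact.mk hp
    haveI := Fitting.pCore_normal (G := ↥(Cfsg.reflectionSubgroup (⇑Q) c)) p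
    haveI := (Fitting.pCore_isPGroup (G := ↥(Cfsg.reflectionSubgroup (⇑Q) c)) p).isNilpotent
    exact solvable_normal_le_center hB hn hc inferInstance
  obtain ⟨hc1, -, hF⟩ := ThreeTransp.layer_structure hD hD2 (hp 2 Nat.prime_two) (hp 3 Nat.prime_three)
  refine ⟨hL.2, hidx, ?_, ThreeTransp.primitive_of_index_le_two hD hD2 (hp 2 Nat.prime_two)
    (hp 3 Nat.prime_three) hL hidx⟩
  rw [hF, ThreeTransp.component_unique hD hc1 hL, sup_comm]

end CfsgLib.Fischer
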