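import Cfsg.Agent.Lib.Fischer.TranspositionClass
import Cfsg.Agent.Lib.Classical.SympTrans

/-!
Symplectic transvections over the field of two elements form a class of 3-transpositions.
-/

set_option autoImplicit false

namespace CfsgLib.Fischer

open Matrix Cfsg CfsgLib.Classical.SympTrans

theorem symplectic_class (n : ℕ) (hn : 1 ≤ n) :
    Cfsg.IsThreeTranspositionClass {g : Matrix.symplecticGroup (Fin n) (ZMod 2) |
      ((g : Matrix (Fin n ⊕ Fin n) (Fin n ⊕ Fin n) (ZMod 2)) - 1).rank = 1} := by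
  have h2 : ∀ c : ZMod 2, c ≠ 0 → c = 1 := by decide
  have hneg : ∀ c : ZMod 2, -c = c := by decide
  have hsq : ∀ v : Fin n ⊕ Fin n → ZMod 2, v + v = 0 := fun v => by
    funext i; exact (by decide : ∀ c : ZMod 2, c + c = 0) (v i)
  have hnT : ∀ v : Fin n ⊕ Fin n → ZMod 2, v ≠ 0 → T v (1 : ZMod 2) ≠ 1 := by
    intro v hv e
    refine hv (eq_zero_of_f v fun y => ?_)
    have h := congrArg (fun g => app g y) e
    simp only [app_T, app_one, one_mul, add_eq_left, smul_eq_zero, hv, or_false] at h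
    rw [f_swap, h, neg_zero]
  have hD : ∀ g : Matrix.symplecticGroup (Fin n) (ZMod 2),
      ((g : Matrix (Fin n ⊕ Fin n) (Fin n ⊕ Fin n) (ZMod 2)) - 1).rank = 1 ↔ ∃ v, v ≠ 0 ∧ g = T v 1 := by
    intro g
    constructor
    · intro h
      obtain ⟨a, φ, ha, hφ, hM⟩ := exists_vecMulVec h
      have happ : ∀ x, app g x = x + (φ ⬝ᵥ x) • a := apply_of_sub_eq hM
      have key : ∀ x y, (φ ⬝ᵥ y) * sympForm n (ZMod 2) x a + (φ ⬝ᵥ x) * sympForm n (ZMod 2) a y = 0 := fun x y => by
        have h := f_app g x y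
        rw [happ, happ, f_add_left, f_add_right, f_add_right, f_smul_left, f_smul_right, f_smul_left,
          f_smul_right, f_self] at h
        linear_combination h
      obtain ⟨i, hi⟩ := Function.ne_iff.1 hφ
      have hy : φ ⬝ᵥ Pi.single i 1 = 1 := by rw [dotProduct_single, mul_one]; exact h2 _ hi
      have hform : ∀ x, sympForm n (ZMod 2) x a = (φ ⬝ᵥ x) * sympForm n (ZMod 2) (Pi.single i 1) a := fun x => by
        have h := key x (Pi.single i 1)
        rw [hy, one_mul, f_swap (Pi.single i 1) a, mul_neg] at h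
        linear_combination h
      have hne : sympForm n (ZMod 2) (Pi.single i 1) a ≠ 0 := fun e => ha (eq_zero_of_f a fun x => by
        rw [f_swap, hform, e, mul_zero, neg_zero])
      refine ⟨a, ha, ext_app fun x => ?_⟩
      rw [happ, app_T, one_mul, hform, h2 _ hne, mul_one]
    · rintro ⟨v, hv, rfl⟩
      set φ : Fin n ⊕ Fin n → ZMod 2 := fun i => sympForm n (ZMod 2) (Pi.single i 1) v with hφ
      have hlin : ∀ x, sympForm n (ZMod 2) x v = φ ⬝ᵥ x := by
        intro x
        simp only [hφ, sympForm, dotProduct]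
        refine Finset.sum_congr rfl fun j _ => ?_
        rw [Finset.sum_eq_single j (fun k _ hk => by rw [Pi.single_eq_of_ne hk, zero_mul])
          (fun h => absurd (Finset.mem_univ j) h), Pi.single_eq_same, one_mul, mul_comm]
      have hM := sub_eq_of_apply (M := ((T v (1 : ZMod 2) : Matrix.symplecticGroup (Fin n) (ZMod 2)) :
        Matrix (Fin n ⊕ Fin n) (Fin n ⊕ Fin n) (ZMod 2))) (a := v) (φ := φ) fun x => by
          have h := app_T v (1 : ZMod 2) x
          rw [one_mul, hlin] at h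
          exact h
      rw [hM]
      refine rank_vecMulVec_eq_one hv fun e => hv (eq_zero_of_f v fun x => ?_)
      rw [f_swap, hlin, e, zero_dotProduct, neg_zero]
  simp only [hD]
  refine isClass ?_ ?_ ?_ ?_ ?_ ?_
  · have hv : (Pi.single (Sum.inl ⟨0, hn⟩) 1 : Fin n ⊕ Fin n → ZMod 2) ≠ 0 := fun e => by
      have := congrFun e (Sum.inl ⟨0, hn⟩); simp at this
    exact ⟨_, _, hv, rfl⟩
  · rintro _ ⟨v, hv, rfl⟩
    exact ⟨hnT v hv, by rw [T_mul, show (1 : ZMod 2) + 1 = 0 from rfl, T_zero]⟩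
  · rintro _ ⟨v, hv, rfl⟩ _ ⟨w, hw, rfl⟩
    have hinv : ∀ u : Fin n ⊕ Fin n → ZMod 2, (T u (1 : ZMod 2))⁻¹ = T u 1 := fun u =>
      inv_eq_of_mul_eq_one_right (by rw [T_mul, show (1 : ZMod 2) + 1 = 0 from rfl, T_zero])
    have e1 := conj_T (T v (1 : ZMod 2)) w (1 : ZMod 2)
    have e2 := conj_T (T w (1 : ZMod 2)) v (1 : ZMod 2)
    rw [hinv, app_T, one_mul] at e1 e2
    by_cases h : sympForm n (ZMod 2) w v = 0
    · left
      rw [h, zero_smul, add_zero] at e1
      calc T v 1 * T w 1 = T v 1 * T w 1 * (T v 1 * T v 1) := by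
            rw [T_mul v, show (1 : ZMod 2) + 1 = 0 from rfl, T_zero, mul_one]
        _ = T v 1 * T w 1 * T v 1 * T v 1 := by group
        _ = T w 1 * T v 1 := by rw [e1]
    · right
      rw [e1, e2, f_swap w v, hneg, h2 _ h, one_smul, one_smul, add_comm]
  · rintro g _ ⟨v, hv, rfl⟩
    exact ⟨app g v, app_ne_zero g hv, conj_T g v 1⟩
  · rintro _ ⟨v, hv, rfl⟩ _ ⟨w, hw, rfl⟩
    obtain ⟨g, hg⟩ := exists_app_eq hv hw
    exact ⟨g, by rw [conj_T, hg]⟩
  · rw [eq_top_iff, ← gen_univ, gen]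
    refine (Subgroup.closure_le _).2 ?_
    rintro _ ⟨v, -, c, rfl⟩
    by_cases hv : v = 0
    · rw [hv, T_zero']; exact one_mem _
    by_cases hc : c = 0
    · rw [hc, T_zero]; exact one_mem _
    · rw [h2 c hc]; exact Subgroup.subset_closure ⟨v, hv, rfl⟩

end CfsgLib.Fischer
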