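import Cfsg.Agent.Lib.Fischer.TranspositionClass
import Cfsg.Agent.Lib.Classical.UnitaryTrans
import Cfsg.Agent.Lib.Classical.UnitaryTransvectionClass

/-!
Unitary transvections over the field of four elements form a class of 3-transpositions.
-/

set_option autoImplicit false

namespace CfsgLib.Fischer

open Matrix Cfsg CfsgLib.Classical.Herm
open CfsgLib.ClassicalAut (Unitary.Conj Unitary.herm_apply)

variable {F : Type} [Field F] [Fintype F] [DecidableEq F] {n : ℕ} (K : Unitary.Conj F 2)

local notation "H" => hermForm n F 2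

omit [DecidableEq F] in
theorem h_add_left (a b c : Fin n → F) : H (a + b) c = H a c + H b c := by
  simp only [hermForm, Pi.add_apply, add_mul, Finset.sum_add_distrib]

omit [DecidableEq F] in
theorem h_smul_left (t : F) (a c : Fin n → F) : H (t • a) c = t * H a c := by
  simp only [hermForm, Pi.smul_apply, smul_eq_mul, Finset.mul_sum, mul_assoc]

omit [DecidableEq F] in
theorem h_smul_right (t : F) (a c : Fin n → F) : H c (t • a) = t ^ 2 * H c a := by
  simp only [hermForm, Pi.smul_apply, smul_eq_mul, mul_pow, Finset.mul_sum]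
  exact Finset.sum_congr rfl fun i _ => by ring

omit [DecidableEq F] in
theorem isT_conj {t : SU n F 2} {v : Fin n → F} {c : F} (ht : IsT K t v c) (g : SU n F 2) :
    IsT K (g * t * g⁻¹) (app g v) c := by
  refine ⟨by rw [h_app]; exact ht.1, ht.2.1, fun x => ?_⟩
  obtain ⟨y, rfl⟩ : ∃ y, x = app g y := ⟨app g⁻¹ x, (app_inv' g x).symm⟩
  rw [app_mul, app_mul, app_inv, ht.2.2, app_add, app_smul, h_app]

omit [DecidableEq F] in
theorem isT_unique {s t : SU n F 2} {v : Fin n → F} {c : F} (hs : IsT K s v c) (ht : IsT K t v c) : s = t :=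
  ext_app fun x => by rw [hs.2.2, ht.2.2]

theorem four_sq {c : F} (hF : Fintype.card F = 4) (hc : c ≠ 0) : c ^ 3 = 1 := by
  have := FiniteField.pow_card_sub_one_eq_one c hc
  rwa [hF] at this

theorem unitary_class (hF : Fintype.card F = 4) (hn : 4 ≤ n) :
    Cfsg.IsThreeTranspositionClass {g : ↥(Cfsg.SU n F 2) |
      (((g : Matrix.SpecialLinearGroup (Fin n) F) : Matrix (Fin n) (Fin n) F) - 1).rank = 1} := by
  obtain ⟨K⟩ := exists_conj_of_card (F := F) (q := 2) (by rw [hF]; norm_num)
  have h2 : (2 : F) = 0 := two_eq_zero K rfl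
  haveI : CharP F 2 := CharTwo.of_one_ne_zero_of_two_eq_zero one_ne_zero h2
  have hneg : ∀ c : F, -c = c := fun c => CharTwo.neg_eq c
  have hbar : ∀ c : F, K.bar c = c ^ 2 := K.bar_apply
  have hsq1 : ∀ c : F, c + K.bar c = 0 → c = 0 ∨ c = 1 := fun c hc => by
    rw [hbar] at hc
    rcases mul_eq_zero.1 (show c * (c + 1) = 0 by linear_combination hc) with h | h
    · exact Or.inl h
    · exact Or.inr (by linear_combination h - h2)
  have hnondeg : ∀ v : Fin n → F, (∀ x, H x v = 0) → v = 0 := fun v hv => by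
    funext i
    have h := hv (Pi.single i 1)
    rw [h_single_left K] at h
    exact (map_eq_zero K.bar).1 h
  have hback : ∀ (g : SU n F 2) (v : Fin n → F), v ≠ 0 → IsT K g v 1 →
      ((g.1 : Matrix (Fin n) (Fin n) F) - 1).rank = 1 := by
    intro g v hv hg
    have hM : (g.1 : Matrix (Fin n) (Fin n) F) - 1 = vecMulVec v (fun i => v i ^ 2) :=
      sub_eq_of_apply fun x => by
        refine (hg.2.2 x).trans ?_
        rw [one_mul]
        congr 2
        simp only [hermForm, dotProduct, mul_comm]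
    rw [hM]
    refine rank_vecMulVec_eq_one hv fun e => hv (funext fun i => ?_)
    exact (pow_eq_zero_iff (by norm_num)).1 (congrFun e i)
  -- a standard transvection
  obtain ⟨t0, v0, hv0, ht0⟩ : ∃ (t : SU n F 2) (v : Fin n → F), v ≠ 0 ∧ IsT K t v 1 := by
    let a : Fin n := ⟨0, by omega⟩
    let b : Fin n := ⟨1, by omega⟩
    have hab : a ≠ b := fun e => by simp [a, b] at e
    set v : Fin n → F := Pi.single a 1 + Pi.single b 1 with hv
    have hvv : H v v = 0 := by
      rw [hv, h_add_left, h_single_left K, h_single_left K, Pi.add_apply, Pi.add_apply, Pi.single_eq_same,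
        Pi.single_eq_same, Pi.single_eq_of_ne hab, Pi.single_eq_of_ne hab.symm, add_zero, zero_add, map_one]
      linear_combination h2
    obtain ⟨t, ht⟩ := exists_T K (c := 1) hvv (by rw [map_one]; linear_combination h2)
    refine ⟨t, v, fun e => ?_, ht⟩
    have := congrFun e a
    rw [hv, Pi.add_apply, Pi.single_eq_same, Pi.single_eq_of_ne hab, add_zero] at this
    exact one_ne_zero this
  have htr : ∀ g : SU n F 2, ((g.1 : Matrix (Fin n) (Fin n) F) - 1).rank = 1 →
      (((g.1 : Matrix (Fin n) (Fin n) F) - 1) * ((g.1 : Matrix (Fin n) (Fin n) F) - 1)) = 0 := by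
    intro g h
    obtain ⟨a, φ, ha, hφ, hM⟩ := exists_vecMulVec h
    have hd : φ ⬝ᵥ a = 0 := by
      have h1 := g.1.2
      rw [show (g.1 : Matrix (Fin n) (Fin n) F) = 1 + replicateCol Unit a * replicateRow Unit φ by
        rw [← vecMulVec_eq, ← hM, add_sub_cancel], det_one_add_replicateCol_mul_replicateRow] at h1
      exact add_eq_left.1 h1
    rw [hM, vecMulVec_mul_vecMulVec, hd, zero_smul]
    exact vecMulVec_zero _
  have hD : ∀ g : SU n F 2, ((g.1 : Matrix (Fin n) (Fin n) F) - 1).rank = 1 ↔ ∃ v, v ≠ 0 ∧ IsT K g v 1 := by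
    refine fun g => ⟨fun h => ?_, fun ⟨v, hv, hg⟩ => hback g v hv hg⟩
    have h0 := hback t0 v0 hv0 ht0
    obtain ⟨s, hs⟩ := isConj_iff.1 (CfsgLib.Classical.UnitaryTransvectionClass.su_transvections
      (K := F) (q := 2) (by rw [hF]; norm_num) (by omega : 3 ≤ n) t0 g ⟨h0, htr t0 h0⟩ ⟨h, htr g h⟩)
    refine ⟨app s v0, fun e => hv0 ?_, hs ▸ isT_conj K ht0 s⟩
    rw [← app_inv s v0, e]
    exact Matrix.mulVec_zero _
  simp only [hD]
  refine isClass ?_ ?_ ?_ ?_ ?_ ?_
  · exact ⟨t0, v0, hv0, ht0⟩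
  · rintro g ⟨v, hv, hg⟩
    refine ⟨fun e => hv (hnondeg v fun x => ?_), ext_app fun x => ?_⟩
    · have h := hg.2.2 x
      rw [e, app_one, one_mul, left_eq_add, smul_eq_zero] at h
      exact h.resolve_right hv
    · rw [app_mul, app_one, hg.2.2, hg.2.2, one_mul, one_mul, h_add_left, h_smul_left, hg.1, mul_zero, add_zero,
        add_assoc, ← add_smul, show H x v + H x v = 0 by linear_combination H x v * h2, zero_smul, add_zero]
  · rintro g ⟨v, hv, hg⟩ h ⟨w, hw, hh⟩
    have hgg : ∀ (s : SU n F 2) (u : Fin n → F), IsT K s u 1 → s⁻¹ = s := fun s u hs => by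
      refine inv_eq_of_mul_eq_one_right (ext_app fun x => ?_)
      rw [app_mul, app_one, hs.2.2, hs.2.2, one_mul, one_mul, h_add_left, h_smul_left, hs.1, mul_zero, add_zero,
        add_assoc, ← add_smul, show H x u + H x u = 0 by linear_combination H x u * h2, zero_smul, add_zero]
    have e1 := isT_conj K hh g
    have e2 := isT_conj K hg h
    rw [hgg g v hg, hg.2.2, one_mul] at e1
    rw [hgg h w hh, hh.2.2, one_mul, h_swap K w v, hbar] at e2
    by_cases hb : H w v = 0
    · left
      rw [hb, zero_smul, add_zero] at e1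
      have e := isT_unique K e1 hh
      calc g * h = g * h * (g * g⁻¹) := by rw [mul_inv_cancel, mul_one]
        _ = g * h * g * g⁻¹ := by group
        _ = h * g := by rw [e, hgg g v hg]
    · right
      set k := H w v with hk
      have hk3 : k ^ 3 = 1 := four_sq hF hb
      refine isT_unique K e1 (v := w + k • v) ?_
      refine ⟨e1.1, e2.2.1, fun x => ?_⟩
      rw [e2.2.2 x]
      have hu : v + k ^ 2 • w = k ^ 2 • (w + k • v) := by
        rw [smul_add, smul_smul, ← pow_succ, hk3, one_smul, add_comm]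
      rw [hu, h_smul_right, smul_smul]
      congr 2
      linear_combination H x (w + k • v) * (k ^ 3 + 1) * hk3
  · rintro s g ⟨v, hv, hg⟩
    refine ⟨app s v, fun e => hv ?_, isT_conj K hg s⟩
    rw [← app_inv s v, e]
    exact Matrix.mulVec_zero _
  · rintro g hg h hh
    obtain ⟨s, hs⟩ := isConj_iff.1 (CfsgLib.Classical.UnitaryTransvectionClass.su_transvections
      (K := F) (q := 2) (by rw [hF]; norm_num) (by omega : 3 ≤ n) g h
      ⟨(hD g).2 hg, htr g ((hD g).2 hg)⟩ ⟨(hD h).2 hh, htr h ((hD h).2 hh)⟩)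
    exact ⟨s, hs⟩
  · rw [eq_top_iff, ← gen_top K (by omega : 3 ≤ n) (by omega)]
    refine (Subgroup.closure_le _).2 ?_
    rintro g ⟨v, -, c, hT⟩
    have h1 : (v = 0 ∨ c = 0) → g = 1 := fun h => ext_app fun x => by
      rw [hT.2.2, app_one]
      rcases h with h | h
      · rw [h, smul_zero, add_zero]
      · rw [h, zero_mul, zero_smul, add_zero]
    rcases hsq1 c hT.2.1 with hc | hc
    · rw [h1 (Or.inr hc)]; exact one_mem _
    by_cases hv : v = 0
    · rw [h1 (Or.inl hv)]; exact one_mem _
    · exact Subgroup.subset_closure ⟨v, hv, hc ▸ hT⟩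

end CfsgLib.Fischer
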