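import Cfsg.Agent.Lib.Fischer.TranspositionClass
import Cfsg.Agent.Lib.Classical.OrthReflect
import Cfsg.Agent.Lib.Classical.OrthForms

/-!
Orthogonal transvections over the field of two elements form a class of 3-transpositions.
-/

set_option autoImplicit false

namespace CfsgLib.Fischer

open Matrix Cfsg CfsgLib.Orth

variable {ι : Type} [Fintype ι] [DecidableEq ι] {Q : QuadraticForm (ZMod 2) (ι → ZMod 2)}

local notation "B" => QuadraticMap.polar (DFunLike.coe Q)

theorem two_eq (c : ZMod 2) (h : c ≠ 0) : c = 1 := by revert h; revert c; decide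

theorem two_sub (x y : ι → ZMod 2) : x - y = x + y := by
  funext i; exact (by decide : ∀ a b : ZMod 2, a - b = a + b) (x i) (y i)

theorem two_add_self (x : ι → ZMod 2) : x + x = 0 := by
  funext i; exact (by decide : ∀ a : ZMod 2, a + a = 0) (x i)

theorem refl_apply_two {v : ι → ZMod 2} {g : Grp Q} (h : IsRefl v g) (x : ι → ZMod 2) :
    ap g x = x + B v x • v := by
  rw [h.2, two_sub, two_eq _ h.1, inv_one, one_mul]

theorem rank_one_iff (hB : Nondeg Q) (g : Grp Q) :
    (((g : GL ι (ZMod 2)) : Matrix ι ι (ZMod 2)) - 1).rank = 1 ↔ ∃ v, Q v = 1 ∧ IsRefl v g := by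
  constructor
  · intro h
    obtain ⟨a, φ, ha, hφ, hM⟩ := exists_vecMulVec h
    have happ : ∀ x, ap g x = x + (φ ⬝ᵥ x) • a := apply_of_sub_eq hM
    have key : ∀ x, (φ ⬝ᵥ x) * ((φ ⬝ᵥ x) * Q a + B x a) = 0 := fun x => by
      have h := ap_q g x
      rw [happ, q_add, q_smul, b_smul_right] at h
      linear_combination h
    have hbil : ∀ x y, (φ ⬝ᵥ y) * B x a + (φ ⬝ᵥ x) * B y a = 0 := fun x y => by
      have h := ap_b g x y
      rw [happ, happ, b_add_left, b_add_right, b_add_right, b_smul_left, b_smul_right, b_smul_left,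
        b_smul_right, b_self, show (2 : ZMod 2) = 0 from rfl, b_comm a y] at h
      linear_combination h
    obtain ⟨i, hi⟩ := Function.ne_iff.1 hφ
    have hy : φ ⬝ᵥ Pi.single i 1 = 1 := by rw [dotProduct_single, mul_one]; exact two_eq _ hi
    have hQ : B (Pi.single i 1) a = Q a := by
      have h := key (Pi.single i 1)
      rw [hy, one_mul, one_mul] at h
      exact ((by decide : ∀ p q : ZMod 2, p + q = 0 → q = p) _ _ h)
    have hlin : ∀ x, B x a = (φ ⬝ᵥ x) * Q a := fun x => by
      have h := hbil x (Pi.single i 1)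
      rw [hy, one_mul, hQ] at h
      exact (by decide : ∀ p q : ZMod 2, p + q = 0 → p = q) _ _ h
    have hQ1 : Q a = 1 := two_eq _ fun e => ha (hB a fun x => by rw [b_comm, hlin, e, mul_zero])
    refine ⟨a, hQ1, by rw [hQ1]; exact one_ne_zero, fun x => ?_⟩
    rw [happ, two_sub, hQ1, inv_one, one_mul, b_comm, hlin, hQ1, mul_one]
  · rintro ⟨v, hv, hg⟩
    have hv0 : v ≠ 0 := fun e => by rw [e, QuadraticMap.map_zero] at hv; exact zero_ne_one hv
    set φ : ι → ZMod 2 := fun i => B v (Pi.single i 1) with hφ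
    have hlin : ∀ x, B v x = φ ⬝ᵥ x := by
      intro x
      conv_lhs => rw [pi_eq_sum_univ' x]
      rw [← QuadraticMap.polarBilin_apply_apply, map_sum]
      refine Finset.sum_congr rfl fun j _ => ?_
      rw [map_smul, QuadraticMap.polarBilin_apply_apply, smul_eq_mul, mul_comm, hφ]
    rw [sub_eq_of_apply (a := v) (φ := φ) fun x => by
      have h := refl_apply_two hg x
      rw [hlin] at h
      exact h]
    exact rank_vecMulVec_eq_one hv0 fun e => hv0 (hB v fun x => by rw [hlin, e, zero_dotProduct])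

theorem exists_move_nonsingular (hB : Nondeg Q) (hn : 6 ≤ Module.finrank (ZMod 2) (ι → ZMod 2))
    {v w : ι → ZMod 2} (hv : Q v = 1) (hw : Q w = 1) : ∃ g : Grp Q, ap g v = w := by
  have step : ∀ p q : ι → ZMod 2, Q p = 1 → Q q = 1 → B p q ≠ 0 → ∃ g : Grp Q, ap g p = q := by
    intro p q hp hq hpq
    have hpq1 := two_eq _ hpq
    have hQs : Q (p + q) = 1 := by rw [q_add, hp, hq, hpq1]; rfl
    obtain ⟨g, hg⟩ := exists_refl hB (show Q (p + q) ≠ 0 by rw [hQs]; exact one_ne_zero)
    refine ⟨g, ?_⟩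
    rw [refl_apply_two hg, b_add_left, b_self, hp, mul_one, b_comm q p, hpq1,
      show (2 : ZMod 2) + 1 = 1 from rfl, one_smul, ← add_assoc, two_add_self, zero_add]
  by_cases hvw : v = w
  · exact ⟨1, by rw [ap_one, hvw]⟩
  by_cases hb : B v w = 0
  swap
  · exact step v w hv hw hb
  have hi : v ∉ Submodule.span (ZMod 2) {w + v} := by
    intro h
    obtain ⟨c, hc⟩ := Submodule.mem_span_singleton.1 h
    by_cases hc0 : c = 0
    · rw [hc0, zero_smul] at hc
      rw [← hc, QuadraticMap.map_zero] at hv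
      exact zero_ne_one hv
    · rw [two_eq c hc0, one_smul, add_eq_right] at hc
      rw [hc, QuadraticMap.map_zero] at hw
      exact zero_ne_one hw
  obtain ⟨z, hz, hvz⟩ := exists_orth_one hB hi
  have hwz : B w z = 1 := by
    have h := mem_orth_span.1 hz (w + v) rfl
    rw [b_add_left, hvz] at h
    exact (by decide : ∀ p : ZMod 2, p + 1 = 0 → p = 1) _ h
  -- a vector of norm one with the same two products
  obtain ⟨z', hz'Q, hvz', hwz'⟩ : ∃ z', Q z' = 1 ∧ B v z' = 1 ∧ B w z' = 1 := by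
    by_cases hzQ : Q z = 1
    · exact ⟨z, hzQ, hvz, hwz⟩
    have hzQ0 : Q z = 0 := by
      by_contra h; exact hzQ (two_eq _ h)
    set U := Submodule.span (ZMod 2) ({v, w} : Set (ι → ZMod 2))
    have hU : Module.finrank (ZMod 2) U ≤ 2 := by
      have h := finrank_span_finset_le_card (R := ZMod 2) ({v, w} : Finset (ι → ZMod 2))
      rw [Finset.coe_pair] at h
      exact h.trans Finset.card_le_two
    have hW : 4 ≤ Module.finrank (ZMod 2) (orth Q U) := by
      have h : Module.finrank (ZMod 2) (ι → ZMod 2) ≤ 2 + Module.finrank (ZMod 2) (orth Q U) :=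
        finrank_orth_pair hB v w
      omega
    obtain ⟨s, hs, hsU⟩ : ∃ s ∈ orth Q U, s ∉ U := by
      by_contra hc
      push Not at hc
      have := Submodule.finrank_mono (show orth Q U ≤ U from fun s hs => hc s hs)
      omega
    obtain ⟨t, ht, hst⟩ := exists_orth_one hB hsU
    have hmem : ∀ u ∈ orth Q U, B v (z + u) = 1 ∧ B w (z + u) = 1 := fun u hu => by
      rw [b_add_right, b_add_right, hvz, hwz, mem_orth_span.1 hu v (Set.mem_insert _ _),
        mem_orth_span.1 hu w (Set.mem_insert_of_mem _ rfl)]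
      exact ⟨rfl, rfl⟩
    have h1 : Q (z + (s + t)) = Q (z + s) + Q (z + t) + 1 := by
      simp only [q_add, b_add_right, hst, hzQ0]
      ring
    by_cases hs1 : Q (z + s) = 1
    · exact ⟨_, hs1, hmem s hs⟩
    by_cases ht1 : Q (z + t) = 1
    · exact ⟨_, ht1, hmem t ht⟩
    refine ⟨_, ?_, hmem (s + t) (add_mem hs ht)⟩
    rw [h1]
    revert hs1 ht1
    generalize Q (z + s) = p
    generalize Q (z + t) = q
    revert p q
    decide
  obtain ⟨g, hg⟩ := step v z' hv hz'Q (by rw [hvz']; exact one_ne_zero)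
  obtain ⟨h, hh⟩ := step z' w hz'Q hw (by rw [b_comm, hwz']; exact one_ne_zero)
  exact ⟨h * g, by rw [ap_mul, hg, hh]⟩

theorem orth_class (hB : Nondeg Q) (hn : 6 ≤ Module.finrank (ZMod 2) (ι → ZMod 2)) :
    Cfsg.IsThreeTranspositionClass {g : Grp Q |
      (((g : GL ι (ZMod 2)) : Matrix ι ι (ZMod 2)) - 1).rank = 1} := by
  simp only [rank_one_iff hB]
  refine isClass ?_ ?_ ?_ ?_ ?_ ?_
  · obtain ⟨u, hu, hu0⟩ := exists_nonzero_singular (Q := Q) (by omega)
    obtain ⟨f, hf, huf⟩ := exists_partner hB hu hu0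
    have h1 : Q (u + f) = 1 := by rw [q_add, hu, hf, huf]; rfl
    obtain ⟨g, hg⟩ := exists_refl hB (show Q (u + f) ≠ 0 by rw [h1]; exact one_ne_zero)
    exact ⟨g, u + f, h1, hg⟩
  · rintro g ⟨v, hv, hg⟩
    refine ⟨fun e => ?_, refl_mul_self hg⟩
    have hv0 : v ≠ 0 := fun e => by rw [e, QuadraticMap.map_zero] at hv; exact zero_ne_one hv
    refine hv0 (hB v fun x => ?_)
    have h := refl_apply_two hg x
    rw [e, ap_one, left_eq_add, smul_eq_zero] at h
    exact h.resolve_right hv0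
  · rintro g ⟨v, hv, hg⟩ h ⟨w, hw, hh⟩
    have e1 := refl_conj hh g
    have e2 := refl_conj hg h
    rw [refl_inv hg, refl_apply_two hg] at e1
    rw [refl_inv hh, refl_apply_two hh] at e2
    by_cases hb : B v w = 0
    · left
      rw [hb, zero_smul, add_zero] at e1
      have e := refl_unique e1 hh
      calc g * h = g * h * (g * g) := by rw [refl_mul_self hg, mul_one]
        _ = g * h * g * g := by group
        _ = h * g := by rw [e]
    · right
      rw [two_eq _ hb, one_smul] at e1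
      rw [b_comm w v, two_eq _ hb, one_smul, add_comm] at e2
      exact refl_unique e1 e2
  · rintro s g ⟨v, hv, hg⟩
    exact ⟨ap s v, by rw [ap_q, hv], refl_conj hg s⟩
  · rintro g ⟨v, hv, hg⟩ h ⟨w, hw, hh⟩
    obtain ⟨s, hs⟩ := exists_move_nonsingular hB hn hv hw
    have e := refl_conj hg s
    rw [hs] at e
    exact ⟨s, refl_unique e hh⟩
  · rw [eq_top_iff, ← refl_eq_top hB (fun h => by omega), Refl]
    refine (Subgroup.closure_le _).2 ?_
    rintro g ⟨v, hg⟩
    exact Subgroup.subset_closure ⟨v, two_eq _ hg.1, hg⟩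

theorem plus_class (m : ℕ) (hm : 3 ≤ m) :
    Cfsg.IsThreeTranspositionClass {g : ↥(Cfsg.isometryGroup (ZMod 2) (Cfsg.quadFormPlus m (ZMod 2))) |
      (((g : GL (Fin m ⊕ Fin m) (ZMod 2)) : Matrix (Fin m ⊕ Fin m) (Fin m ⊕ Fin m) (ZMod 2)) - 1).rank = 1} := by
  obtain ⟨Q, hQ, hB⟩ := exists_quadForm_plus (F := ZMod 2) m
  rw [← hQ]
  refine orth_class hB ?_
  rw [Module.finrank_fintype_fun_eq_card, Fintype.card_sum, Fintype.card_fin]
  omega

theorem minus_class (m : ℕ) (hm : 2 ≤ m) :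
    Cfsg.IsThreeTranspositionClass {g : ↥(Cfsg.isometryGroup (ZMod 2) (Cfsg.quadFormMinus m (ZMod 2) 1 1)) |
      (((g : GL ((Fin m ⊕ Fin m) ⊕ Fin 2) (ZMod 2)) :
        Matrix ((Fin m ⊕ Fin m) ⊕ Fin 2) ((Fin m ⊕ Fin m) ⊕ Fin 2) (ZMod 2)) - 1).rank = 1} := by
  obtain ⟨Q, hQ, hB⟩ := exists_quadForm_minus (F := ZMod 2) m (a := 1) (b := 1) (by decide)
  rw [← hQ]
  refine orth_class hB ?_
  rw [Module.finrank_fintype_fun_eq_card, Fintype.card_sum, Fintype.card_sum, Fintype.card_fin, Fintype.card_fin]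
  omega

end CfsgLib.Fischer
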