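import Cfsg.Agent.Lib.Fischer.TranspositionClass
import Cfsg.Agent.Lib.Classical.OrthReflect
import Cfsg.Prelude.Def_FischerSpaces

/-!
Reflections of one norm over the field of three elements form a class of 3-transpositions.
-/

set_option autoImplicit false

namespace CfsgLib.Fischer

open Matrix Cfsg CfsgLib.Orth

variable {ι : Type} [Fintype ι] [DecidableEq ι] {Q : QuadraticForm (ZMod 3) (ι → ZMod 3)}

local notation "B" => QuadraticMap.polar (DFunLike.coe Q)

theorem three_inv (c : ZMod 3) : c⁻¹ = c := by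
  revert c; decide +kernel

theorem refl_apply_three {v : ι → ZMod 3} {g : Grp Q} (h : IsRefl v g) (x : ι → ZMod 3) :
    ap g x = x - (Q v * B v x) • v := by
  rw [h.2, three_inv]

theorem three_arith : ∀ c b : ZMod 3, c ≠ 0 → b ≠ 0 →
    c + c * b * (c * b) * c - c * b * b = c ∧ c * (2 * c - c * b * b) = 1 := by decide +kernel

theorem three_eq_zero : (3 : ZMod 3) = 0 := by decide +kernel

theorem norm_one_iff {c : ZMod 3} (hc : c ≠ 0) (g : Grp Q) :
    g ∈ Cfsg.reflectionsOfNorm (⇑Q) c ↔ ∃ v, Q v = c ∧ IsRefl v g := by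
  constructor
  · rintro ⟨v, hv, h⟩
    exact ⟨v, hv, (refl_iff (by rw [hv]; exact hc)).2 h⟩
  · rintro ⟨v, hv, h⟩
    exact ⟨v, hv, (refl_iff h.1).1 h⟩

theorem orth_three_class (hB : Nondeg Q) (hn : 5 ≤ Module.finrank (ZMod 3) (ι → ZMod 3)) {c : ZMod 3}
    (hc : c ≠ 0) :
    Cfsg.IsThreeTranspositionClass {g : ↥(Cfsg.reflectionSubgroup (⇑Q) c) |
      (g : ↥(Cfsg.isometryGroup (ZMod 3) (⇑Q))) ∈ Cfsg.reflectionsOfNorm (⇑Q) c} := by
  set K := Cfsg.reflectionSubgroup (⇑Q) c with hK
  have hmemK : ∀ {v : ι → ZMod 3} {g : Grp Q}, Q v = c → IsRefl v g → g ∈ K := fun hv h =>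
    Subgroup.subset_closure ((norm_one_iff hc _).2 ⟨_, hv, h⟩)
  have step : ∀ p q : ι → ZMod 3, Q p = c → Q q = c → B p q ≠ 0 →
      ∃ g ∈ K, ∃ s : ZMod 3, s ≠ 0 ∧ ap g p = s • q := by
    intro p q hp hq hpq
    set s := c * B p q with hs
    have hs0 : s ≠ 0 := mul_ne_zero hc hpq
    have hu : Q (p - s • q) = c := by
      rw [q_sub, q_smul, b_smul_right, hp, hq, hs]
      exact (three_arith c _ hc hpq).1
    obtain ⟨g, hg⟩ := exists_refl hB (show Q (p - s • q) ≠ 0 by rw [hu]; exact hc)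
    refine ⟨g, hmemK hu hg, s, hs0, ?_⟩
    rw [refl_apply_three hg, hu, b_sub_left, b_smul_left, b_self, hp, b_comm q p, hs]
    have e : c * (2 * c - c * B p q * B p q) = 1 := (three_arith c _ hc hpq).2
    rw [e, one_smul, sub_sub_cancel]
  refine isClass ?_ ?_ ?_ ?_ ?_ ?_
  · obtain ⟨u, hu, hu0⟩ := exists_nonzero_singular (Q := Q) hn
    obtain ⟨f, hf, huf⟩ := exists_partner hB hu hu0
    have h1 : Q (u + c • f) = c := by rw [q_add, q_smul, hu, hf, b_smul_right, huf]; ring
    obtain ⟨g, hg⟩ := exists_refl hB (show Q (u + c • f) ≠ 0 by rw [h1]; exact hc)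
    exact ⟨⟨g, hmemK h1 hg⟩, (norm_one_iff hc g).2 ⟨_, h1, hg⟩⟩
  · rintro g hg
    obtain ⟨v, hv, hr⟩ := (norm_one_iff hc _).1 hg
    refine ⟨fun e => ?_, Subtype.ext (refl_mul_self hr)⟩
    have hv0 : v ≠ 0 := fun e => by rw [e, QuadraticMap.map_zero] at hv; exact hc hv.symm
    refine hv0 (hB v fun x => ?_)
    have h := refl_apply_three hr x
    rw [e, OneMemClass.coe_one, ap_one, eq_comm, sub_eq_self, smul_eq_zero, or_iff_left hv0, hv] at h
    exact (mul_eq_zero.1 h).resolve_left hc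
  · rintro g hg h hh
    obtain ⟨v, hv, hr⟩ := (norm_one_iff hc _).1 hg
    obtain ⟨w, hw, hs⟩ := (norm_one_iff hc _).1 hh
    have e1 := refl_conj hs (g : Grp Q)
    have e2 := refl_conj hr (h : Grp Q)
    rw [refl_inv hr, refl_apply_three hr, hv] at e1
    rw [refl_inv hs, refl_apply_three hs, hw, b_comm w v] at e2
    by_cases hb : B v w = 0
    · left
      rw [hb, mul_zero, zero_smul, sub_zero] at e1
      have e := refl_unique e1 hs
      apply Subtype.ext
      show (g : Grp Q) * h = (h : Grp Q) * g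
      calc (g : Grp Q) * h = g * h * (g * g) := by rw [refl_mul_self hr, mul_one]
        _ = g * h * g * g := by group
        _ = h * g := by rw [e]
    · right
      set k := c * B v w with hk
      have hk0 : k ≠ 0 := mul_ne_zero hc hb
      have hkk : k * k = 1 := (by decide +kernel : ∀ a : ZMod 3, a ≠ 0 → a * a = 1) k hk0
      have e3 := refl_smul e1 (neg_ne_zero.2 hk0)
      rw [smul_sub, smul_smul, neg_mul, hkk, neg_one_smul, sub_neg_eq_add, neg_smul, neg_add_eq_sub] at e3
      exact Subtype.ext (refl_unique e3 e2)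
  · rintro s g hg
    obtain ⟨v, hv, hr⟩ := (norm_one_iff hc _).1 hg
    exact (norm_one_iff hc _).2 ⟨ap (s : Grp Q) v, by rw [ap_q, hv], refl_conj hr (s : Grp Q)⟩
  · rintro g hg h hh
    obtain ⟨v, hv, hr⟩ := (norm_one_iff hc _).1 hg
    obtain ⟨w, hw, hs⟩ := (norm_one_iff hc _).1 hh
    have fin : ∀ (a : Grp Q) (s : ZMod 3), a ∈ K → s ≠ 0 → ap a v = s • w → ∃ x : K, x * g * x⁻¹ = h := by
      intro a s ha hs0 he
      refine ⟨⟨a, ha⟩, Subtype.ext ?_⟩
      have e := refl_conj hr a
      rw [he] at e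
      exact refl_unique e (refl_smul hs hs0)
    by_cases hb : B v w = 0
    swap
    · obtain ⟨a, ha, s, hs0, he⟩ := step v w hv hw hb
      exact fin a s ha hs0 he
    set U := Submodule.span (ZMod 3) ({v, w} : Set (ι → ZMod 3))
    have h2 : B v v ≠ 0 := by
      rw [b_self, hv]; exact mul_ne_zero (by decide +kernel) hc
    have h2w : B w w ≠ 0 := by
      rw [b_self, hw]; exact mul_ne_zero (by decide +kernel) hc
    obtain ⟨e, he, he0, heq⟩ := exists_singular (Q := Q) (U := orth Q U) (by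
      have h : Module.finrank (ZMod 3) (ι → ZMod 3) ≤ 2 + Module.finrank (ZMod 3) (orth Q U) :=
        finrank_orth_pair hB v w
      omega)
    have heU : e ∉ U := by
      intro h
      obtain ⟨a, b, rfl⟩ := Submodule.mem_span_pair.1 h
      have hv' := mem_orth_span.1 he v (Set.mem_insert _ _)
      have hw' := mem_orth_span.1 he w (Set.mem_insert_of_mem _ rfl)
      rw [b_add_right, b_smul_right, b_smul_right, hb, mul_zero, add_zero, mul_eq_zero, or_iff_left h2] at hv'
      rw [b_add_right, b_smul_right, b_smul_right, b_comm w v, hb, mul_zero, zero_add, mul_eq_zero,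
        or_iff_left h2w] at hw'
      exact he0 (by rw [hv', hw', zero_smul, zero_smul, add_zero])
    obtain ⟨f, hf, hef⟩ := exists_orth_one hB heU
    set t := f + (2 * c - Q f) • e with ht
    have htU : t ∈ orth Q U := add_mem hf (Submodule.smul_mem _ _ he)
    have htv := mem_orth_span.1 htU v (Set.mem_insert _ _)
    have htw := mem_orth_span.1 htU w (Set.mem_insert_of_mem _ rfl)
    have htq : Q t = 2 * c := by
      rw [ht, q_add, q_smul, heq, b_smul_right, b_comm f e, hef]; ring
    set z := v + w + t with hz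
    have hzq : Q z = c := by
      rw [hz, q_add, q_add, hb, hv, hw, b_add_left, htv, htw, htq]
      linear_combination c * three_eq_zero
    have hzv : B v z ≠ 0 := by rw [hz, b_add_right, b_add_right, hb, htv, add_zero, add_zero]; exact h2
    have hzw : B z w ≠ 0 := by
      rw [b_comm, hz, b_add_right, b_add_right, b_comm w v, hb, htw, zero_add, add_zero]; exact h2w
    obtain ⟨a, ha, s, hs0, hea⟩ := step v z hv hzq hzv
    obtain ⟨b, hb', r, hr0, heb⟩ := step z w hzq hw hzw
    exact fin (b * a) (s * r) (mul_mem hb' ha) (mul_ne_zero hs0 hr0)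
      (by rw [ap_mul, hea, ap_smul, heb, smul_smul])
  · exact Subgroup.closure_closure_coe_preimage

theorem orth_three_class_fin (n : ℕ) (hn : 5 ≤ n) (R : QuadraticForm (ZMod 3) (Fin n → ZMod 3))
    (hR : (QuadraticMap.polarBilin R).Nondegenerate) {c : ZMod 3} (hc : c ≠ 0) :
    Cfsg.IsThreeTranspositionClass {g : ↥(Cfsg.reflectionSubgroup (⇑R) c) |
      (g : ↥(Cfsg.isometryGroup (ZMod 3) (⇑R))) ∈ Cfsg.reflectionsOfNorm (⇑R) c} :=
  orth_three_class (fun x hx => hR.1 x hx) (by rw [Module.finrank_fintype_fun_eq_card, Fintype.card_fin]; exact hn) hc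

end CfsgLib.Fischer
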