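import Cfsg.Prelude.Def_SporadicB
import Mathlib

/-!
A criterion for a class of 3-transpositions; matrices of rank one.
-/

set_option autoImplicit false

namespace CfsgLib.Fischer

theorem pow_two_or_three {G : Type*} [Group G] {a b : G} (ha : a * a = 1) (hb : b * b = 1)
    (h : a * b = b * a ∨ a * b * a = b * a * b) : (a * b) ^ 2 = 1 ∨ (a * b) ^ 3 = 1 := by
  rcases h with h | h
  · left
    rw [pow_two, mul_assoc, ← mul_assoc b, ← h, mul_assoc a b b, hb, mul_one, ha]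
  · right
    have e : (a * b) ^ 3 = a * b * a * (b * a * b) := by simp [pow_succ, mul_assoc]
    rw [e, ← h, mul_assoc (a * b), ← mul_assoc a (a * b) a, ← mul_assoc a a b, ha, one_mul, mul_assoc a b,
      ← mul_assoc b b a, hb, one_mul, ha]

theorem isClass {G : Type*} [Group G] {D : Set G} (hne : D.Nonempty) (hord : ∀ d ∈ D, d ≠ 1 ∧ d * d = 1)
    (hprod : ∀ d ∈ D, ∀ e ∈ D, d * e = e * d ∨ d * e * d = e * d * e)
    (hconj : ∀ g : G, ∀ d ∈ D, g * d * g⁻¹ ∈ D) (htrans : ∀ d ∈ D, ∀ e ∈ D, ∃ g : G, g * d * g⁻¹ = e)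
    (hgen : Subgroup.closure D = ⊤) : Cfsg.IsThreeTranspositionClass D := by
  refine ⟨⟨fun d hd => ?_, fun d hd e he => pow_two_or_three (hord d hd).2 (hord e he).2 (hprod d hd e he)⟩, ?_, hgen⟩
  · exact orderOf_eq_prime (by rw [pow_two]; exact (hord d hd).2) (hord d hd).1
  · obtain ⟨d, hd⟩ := hne
    refine ⟨d, hd, Set.ext fun e => ⟨fun he => ?_, fun he => ?_⟩⟩
    · obtain ⟨g, hg⟩ := htrans d hd e he
      exact isConj_iff.2 ⟨g, hg⟩
    · obtain ⟨g, rfl⟩ := isConj_iff.1 (show IsConj d e from he)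
      exact hconj g d hd

open Matrix in
theorem exists_vecMulVec {F ι : Type*} [Field F] [Fintype ι] [DecidableEq ι] {M : Matrix ι ι F}
    (h : M.rank = 1) : ∃ a φ : ι → F, a ≠ 0 ∧ φ ≠ 0 ∧ M = vecMulVec a φ := by
  obtain ⟨a, ha, hall⟩ := finrank_eq_one_iff'.1 (show Module.finrank F (LinearMap.range M.mulVecLin) = 1 from h)
  have hcol : ∀ j, ∃ c : F, M *ᵥ Pi.single j 1 = c • (a : ι → F) := fun j => by
    obtain ⟨c, hc⟩ := hall ⟨_, ⟨Pi.single j 1, rfl⟩⟩
    exact ⟨c, (congrArg Subtype.val hc).symm⟩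
  choose φ hφ using hcol
  have hM : M = vecMulVec (a : ι → F) φ := by
    ext i j
    have := congrFun (hφ j) i
    rw [mulVec_single, MulOpposite.op_one, one_smul] at this
    simp only [Matrix.col_apply, Pi.smul_apply, smul_eq_mul] at this
    rw [this, vecMulVec_apply, mul_comm]
  refine ⟨a, φ, fun e => ha (Subtype.ext e), fun e => ?_, hM⟩
  rw [hM, e, vecMulVec_zero, rank_zero] at h
  exact zero_ne_one h

open Matrix in
theorem rank_vecMulVec_eq_one {F ι : Type*} [Field F] [Fintype ι] [DecidableEq ι] {a φ : ι → F}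
    (ha : a ≠ 0) (hφ : φ ≠ 0) : (vecMulVec a φ).rank = 1 := by
  refine le_antisymm (rank_vecMulVec_le _ _) (Nat.one_le_iff_ne_zero.2 fun h => ?_)
  have hr := Submodule.finrank_eq_zero.1 (show Module.finrank F (LinearMap.range (vecMulVec a φ).mulVecLin) = 0 from h)
  obtain ⟨i, hi⟩ := Function.ne_iff.1 hφ
  obtain ⟨j, hj⟩ := Function.ne_iff.1 ha
  have := congrFun (show vecMulVec a φ *ᵥ Pi.single i 1 = 0 from
    (Submodule.mem_bot F).1 (hr ▸ LinearMap.mem_range_self _ _)) j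
  rw [mulVec_single, MulOpposite.op_one, one_smul] at this
  simp only [Matrix.col_apply, vecMulVec_apply, Pi.zero_apply] at this
  exact (mul_ne_zero hj hi) this

open Matrix in
theorem apply_of_sub_eq {F ι : Type*} [Field F] [Fintype ι] [DecidableEq ι] {M : Matrix ι ι F} {a φ : ι → F}
    (h : M - 1 = vecMulVec a φ) (x : ι → F) : M *ᵥ x = x + (φ ⬝ᵥ x) • a := by
  rw [show M = 1 + vecMulVec a φ by rw [← h, add_sub_cancel], add_mulVec, one_mulVec, vecMulVec_mulVec,
    op_smul_eq_smul]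

open Matrix in
theorem sub_eq_of_apply {F ι : Type*} [Field F] [Fintype ι] [DecidableEq ι] {M : Matrix ι ι F} {a φ : ι → F}
    (h : ∀ x, M *ᵥ x = x + (φ ⬝ᵥ x) • a) : M - 1 = vecMulVec a φ := by
  refine Matrix.ext_iff_mulVec.2 fun x => ?_
  rw [sub_mulVec, one_mulVec, h, add_sub_cancel_left, vecMulVec_mulVec, op_smul_eq_smul]

end CfsgLib.Fischer
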